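import Groth.Agent.CohVanish.LES
import Mathlib.Topology.Spectral.Prespectral
import Mathlib.Topology.QuasiSeparated
import Mathlib.Topology.Sheaves.Skyscraper

/-!
# Abelian sheaves on spaces with a basis of compact opens

Gluing and induction over compact opens; sheaves with surjective restriction maps between compact opens have no
cohomology on compact quasi-separated opens; sections of filtered colimits on such opens.
-/

set_option autoImplicit false
set_option linter.style.haveILetI false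
set_option backward.isDefEq.respectTransparency false
set_option backward.isDefEq.respectTransparency.types false
universe u v

open CategoryTheory CategoryTheory.Limits Opposite TopologicalSpace

namespace Groth.Agent.SpecColim

open Groth.Agent.CohVanish

variable {X : TopCat.{u}}

/-- Composition of restrictions. -/
lemma res_res (F : AbSh X) {A B C : Opens X} (h : A ≤ B) (h' : B ≤ C) (s : F.obj.obj (op C)) :
    F.obj.map (homOfLE h).op (F.obj.map (homOfLE h').op s) = F.obj.map (homOfLE (h.trans h')).op s :=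
  (ConcreteCategory.congr_hom (F.obj.map_comp (homOfLE h').op (homOfLE h).op) s).symm

lemma res_self (F : AbSh X) {A : Opens X} (h : A ≤ A) (s : F.obj.obj (op A)) :
    F.obj.map (homOfLE h).op s = s :=
  ConcreteCategory.congr_hom (F.obj.map_id (op A)) s

lemma app_res {F G : AbSh X} (φ : F ⟶ G) {A B : Opens X} (h : A ≤ B) (s : F.obj.obj (op B)) :
    φ.hom.app (op A) (F.obj.map (homOfLE h).op s) = G.obj.map (homOfLE h).op (φ.hom.app (op B) s) :=
  ConcreteCategory.congr_hom (φ.hom.naturality (homOfLE h).op) s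

lemma app_comp {F G H : AbSh X} (φ : F ⟶ G) (ψ : G ⟶ H) (A : Opens X) (s : F.obj.obj (op A)) :
    (φ ≫ ψ).hom.app (op A) s = ψ.hom.app (op A) (φ.hom.app (op A) s) := rfl

/-- Sections agreeing on the overlap glue. -/
lemma exists_glue₂ (F : AbSh X) {U V W : Opens X} (hU : U ≤ W) (hV : V ≤ W) (hcov : W ≤ U ⊔ V)
    (a : F.obj.obj (op U)) (b : F.obj.obj (op V))
    (h : F.obj.map (homOfLE (inf_le_left : U ⊓ V ≤ U)).op a = F.obj.map (homOfLE (inf_le_right : U ⊓ V ≤ V)).op b) :
    ∃ s : F.obj.obj (op W), F.obj.map (homOfLE hU).op s = a ∧ F.obj.map (homOfLE hV).op s = b := by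
  let f : Bool → Opens X := fun t => Bool.rec V U t
  let sf : ∀ t : Bool, ToType (F.obj.obj (op (f t))) := fun t =>
    Bool.rec (motive := fun t => ToType (F.obj.obj (op (f t)))) b a t
  have hle : ∀ t, f t ≤ W := fun t => Bool.rec hV hU t
  obtain ⟨s, hs, -⟩ := TopCat.Sheaf.existsUnique_gluing' F f W (fun t => homOfLE (hle t))
    (hcov.trans (sup_le (le_iSup f true) (le_iSup f false))) sf (by
      rintro (_ | _) (_ | _)
      · rfl
      · refine Eq.trans ?_ ((congrArg (F.obj.map (homOfLE (le_of_eq (inf_comm V U))).op) h.symm).trans ?_)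
        · exact (res_res F _ _ b).symm
        · exact res_res F _ _ a
      · exact h
      · rfl)
  exact ⟨s, hs true, hs false⟩

lemma eq_of_res₂ (F : AbSh X) {U V W : Opens X} (hU : U ≤ W) (hV : V ≤ W) (hcov : W ≤ U ⊔ V)
    {s t : F.obj.obj (op W)} (h₁ : F.obj.map (homOfLE hU).op s = F.obj.map (homOfLE hU).op t)
    (h₂ : F.obj.map (homOfLE hV).op s = F.obj.map (homOfLE hV).op t) : s = t :=
  TopCat.Sheaf.eq_of_locally_eq₂ F (homOfLE hU) (homOfLE hV) hcov s t h₁ h₂

lemma sections_bot_subsingleton (F : AbSh X) (s t : F.obj.obj (op (⊥ : Opens X))) : s = t :=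
  TopCat.Sheaf.eq_of_locally_eq' F (fun e : PEmpty.{u + 1} => (e.elim : Opens X)) ⊥ (fun e => e.elim) bot_le s t
    fun e => e.elim

/-- Induction over compact opens. -/
lemma induction_compact {U : Opens X} (hU : IsCompact (U : Set X)) (P : Opens X → Prop) (hbot : P ⊥)
    (hsup : ∀ V W : Opens X, V ≤ U → W ≤ U → IsCompact (V : Set X) → IsCompact (W : Set X) → P V → P W →
      P (V ⊔ W))
    (hloc : ∀ x ∈ U, ∃ W : Opens X, x ∈ W ∧ W ≤ U ∧ IsCompact (W : Set X) ∧ P W) : P U := by
  classical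
  choose W hxW hWU hWc hPW using hloc
  obtain ⟨t, ht⟩ := hU.elim_finite_subcover (fun x : U => (W x.1 x.2 : Set X)) (fun x => (W x.1 x.2).2)
    fun x hx => Set.mem_iUnion.2 ⟨⟨x, hx⟩, hxW x hx⟩
  have key : ∀ s : Finset U, (s.sup fun x => W x.1 x.2) ≤ U ∧
      IsCompact ((s.sup fun x => W x.1 x.2 : Opens X) : Set X) ∧ P (s.sup fun x => W x.1 x.2) := by
    intro s
    induction s using Finset.induction with
    | empty => exact ⟨by simp, by simp, by simpa using hbot⟩
    | insert x s hx ih =>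
      rw [Finset.sup_insert]
      refine ⟨sup_le (hWU x.1 x.2) ih.1, ?_, hsup _ _ (hWU x.1 x.2) ih.1 (hWc x.1 x.2) ih.2.1 (hPW x.1 x.2) ih.2.2⟩
      rw [Opens.coe_sup]
      exact (hWc x.1 x.2).union ih.2.1
  obtain ⟨h1, -, h3⟩ := key t
  convert h3
  refine le_antisymm (fun x hx => ?_) h1
  obtain ⟨y, hy, hxy⟩ := Set.mem_iUnion₂.1 (ht hx)
  exact (Finset.le_sup (f := fun x => W x.1 x.2) hy) hxy

/-- Compact open neighbourhoods inside an open. -/
lemma exists_compact_nbhd [PrespectralSpace X] {W : Opens X} {x : X} (hx : x ∈ W) :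
    ∃ V : Opens X, x ∈ V ∧ V ≤ W ∧ IsCompact (V : Set X) := by
  obtain ⟨V, ⟨hVo, hVc⟩, hxV, hVW⟩ := PrespectralSpace.isTopologicalBasis.exists_subset_of_mem_open hx W.2
  exact ⟨⟨V, hVo⟩, hxV, hVW, hVc⟩

/-- The restriction maps between compact opens in `U` are surjective. -/
def QFlasque (U : Opens X) (F : AbSh X) : Prop :=
  ∀ ⦃V W : Opens X⦄ (h : W ≤ V), V ≤ U → IsCompact (V : Set X) → IsCompact (W : Set X) →
    Function.Surjective (F.obj.map (homOfLE h).op)

lemma qFlasque_of_isFlasque (U : Opens X) (F : AbSh X) [TopCat.Sheaf.IsFlasque F] : QFlasque U F :=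
  fun _ _ h _ _ _ => (AddCommGrpCat.epi_iff_surjective _).1 (TopCat.Presheaf.IsFlasque.epi (F := F.obj) (homOfLE h).op)

variable [PrespectralSpace X] {U : Opens X}

/-- Sections lift over compact opens if the kernel is quasi-flasque. -/
lemma surjective_of_qFlasque {S : ShortComplex (AbSh X)} (hS : S.ShortExact) (hUqs : IsQuasiSeparated (U : Set X))
    (hF : QFlasque U S.X₁) {V : Opens X} (hVU : V ≤ U) (hVc : IsCompact (V : Set X)) :
    Function.Surjective (S.g.hom.app (op V)) := by
  intro q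
  suffices key : ∃ h : V ≤ V, ∃ t, S.g.hom.app (op V) t = S.X₃.obj.map (homOfLE h).op q by
    obtain ⟨h, t, ht⟩ := key
    exact ⟨t, ht.trans (res_self _ _ _)⟩
  refine induction_compact hVc (fun A => ∃ h : A ≤ V, ∃ t, S.g.hom.app (op A) t = S.X₃.obj.map (homOfLE h).op q)
    ⟨bot_le, 0, sections_bot_subsingleton _ _ _⟩ ?_ ?_
  · rintro A B hA hB hAc hBc ⟨h₁, t₁, ht₁⟩ ⟨h₂, t₂, ht₂⟩
    have hc : IsCompact ((A ⊓ B : Opens X) : Set X) :=
      hUqs _ _ (hA.trans hVU) A.2 hAc (hB.trans hVU) B.2 hBc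
    let d := S.X₂.obj.map (homOfLE (inf_le_left : A ⊓ B ≤ A)).op t₁ -
      S.X₂.obj.map (homOfLE (inf_le_right : A ⊓ B ≤ B)).op t₂
    have hd : S.g.hom.app (op (A ⊓ B)) d = 0 := by
      rw [map_sub, app_res, app_res, ht₁, ht₂, res_res, res_res, sub_self]
    haveI := hS.mono_f
    obtain ⟨e, he⟩ := TopCat.Sheaf.sections_exact_of_left_exact hS.1 hS.2 d hd
    obtain ⟨e', he'⟩ := hF (inf_le_right : A ⊓ B ≤ B) (hB.trans hVU) hBc hc e
    obtain ⟨s, hs₁, hs₂⟩ := exists_glue₂ S.X₂ (le_sup_left : A ≤ A ⊔ B) le_sup_right le_rfl t₁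
      (t₂ + S.f.hom.app (op B) e') (by
        rw [map_add, ← app_res, he', he]
        simp only [d]
        abel)
    refine ⟨sup_le h₁ h₂, s, eq_of_res₂ S.X₃ (le_sup_left : A ≤ A ⊔ B) le_sup_right le_rfl ?_ ?_⟩
    · rw [← app_res, hs₁, res_res, ht₁]
    · rw [← app_res, hs₂, res_res, map_add, ht₂, ← app_comp, S.zero]
      exact add_zero _
  · intro x hx
    obtain ⟨W, hWV, hxW, t, ht⟩ := exists_lift_near hS V q x hx
    obtain ⟨W', hxW', hW', hW'c⟩ := exists_compact_nbhd hxW
    exact ⟨W', hxW', hW'.trans hWV, hW'c, hW'.trans hWV, S.X₂.obj.map (homOfLE hW').op t, by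
      rw [app_res, ht, res_res]⟩

/-- Quasi-flasque sheaves have no cohomology on compact quasi-separated opens. -/
theorem subsingleton_EU_of_qFlasque (hUc : IsCompact (U : Set X)) (hUqs : IsQuasiSeparated (U : Set X))
    (n : ℕ) : ∀ (F : AbSh X), QFlasque U F → Subsingleton (EU F U (n + 1)) := by
  induction n with
  | zero =>
    intro F hF
    refine subsingleton_of_forall_eq 0 fun a => ?_
    obtain ⟨q, rfl⟩ := eDelta_surjective (injSES_shortExact F) U 0 a
    exact (eDelta_zero_eq_zero _ U q).2 (surjective_of_qFlasque (injSES_shortExact F) hUqs hF le_rfl hUc _)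
  | succ n ih =>
    intro F hF
    refine subsingleton_of_forall_eq 0 fun a => ?_
    obtain ⟨q, rfl⟩ := eDelta_surjective (injSES_shortExact F) U (n + 1) a
    haveI : TopCat.Sheaf.IsFlasque (injSES F).X₂ := isFlasque_of_injective _
    have h3 : QFlasque U (injSES F).X₃ := fun V W h hV hVc hWc s => by
      obtain ⟨t, ht⟩ := surjective_of_qFlasque (injSES_shortExact F) hUqs hF (h.trans hV) hWc s
      obtain ⟨t', ht'⟩ := qFlasque_of_isFlasque U (injSES F).X₂ h hV hVc hWc t
      exact ⟨(injSES F).g.hom.app (op V) t', by rw [← app_res, ht', ht]⟩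
    haveI := ih _ h3
    rw [Subsingleton.elim q 0]
    exact map_zero _

section Colimit

variable {J : Type v} [SmallCategory J] [IsFiltered J]

end Colimit

end Groth.Agent.SpecColim
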