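import Groth.Agent.SpecColim.Push
import Groth.Agent.HigherDirect.Base
import Groth.Agent.HigherDirect.ModCmp
import Groth.Agent.ModGroth.Basic
import Groth.Agent.TriH.FilteredSum
import Groth.Prelude.Def_ModSite

/-!
# Filtered colimits and quasi-compact quasi-separated direct images
-/

set_option autoImplicit false
set_option linter.style.haveILetI false
set_option backward.isDefEq.respectTransparency false
set_option backward.isDefEq.respectTransparency.types false
universe u

open CategoryTheory CategoryTheory.Limits AlgebraicGeometry Opposite TopologicalSpace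

namespace Groth.Agent.SpecColim

open Groth.Agent.CohVanish

variable {X S : Scheme.{u}} (f : X ⟶ S)

theorem isGrothendieckAbelian_modules (X : Scheme.{u}) : IsGrothendieckAbelian.{u} X.Modules :=
  ModGroth.sheaf_isGrothendieckAbelian (ModSite.ringSh X.sheaf)

theorem preservesColimitsOfShape_toAbF (X : Scheme.{u}) (J : Type u) [SmallCategory J] :
    PreservesColimitsOfShape J (toAbF X) :=
  ModGroth.toSheaf_preservesColimitsOfShape (ModSite.ringSh X.sheaf) J

theorem reflectsIsomorphisms_toAbF (X : Scheme.{u}) : (toAbF X).ReflectsIsomorphisms := inferInstance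

variable [QuasiCompact f] [QuasiSeparated f]

theorem isCompact_preimage_affine (U : S.affineOpens) :
    IsCompact (((Opens.map f.base).obj U.1 : Opens (sp X)) : Set X) :=
  f.isCompact_preimage U.2.isCompact

theorem isQuasiSeparated_preimage_affine (U : S.affineOpens) :
    IsQuasiSeparated (((Opens.map f.base).obj U.1 : Opens (sp X)) : Set X) :=
  f.isQuasiSeparated_preimage U.2.isQuasiSeparated

variable (J : Type u) [SmallCategory J] [IsFiltered J]

/-- `f_*` of abelian sheaves commutes with filtered colimits. -/
theorem preservesColimitsOfShape_pushAb : PreservesColimitsOfShape J (Coh.pushAb f) :=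
  preservesColimitsOfShape_push (f.base : sp X ⟶ sp S) (fun U : S.affineOpens => U.1)
    (HigherDirect.isBasis_affine S) (isCompact_preimage_affine f) (isQuasiSeparated_preimage_affine f)

/-- `f_*` of modules commutes with filtered colimits. -/
theorem preservesColimitsOfShape_pushforward :
    PreservesColimitsOfShape J (Scheme.Modules.pushforward f) := by
  haveI := isGrothendieckAbelian_modules X
  haveI := isGrothendieckAbelian_modules S
  haveI := preservesColimitsOfShape_toAbF X J
  haveI := preservesColimitsOfShape_toAbF S J
  haveI := preservesColimitsOfShape_pushAb f J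
  haveI : PreservesColimitsOfShape J (Scheme.Modules.pushforward f ⋙ toAbF S) :=
    preservesColimitsOfShape_of_natIso (Iso.refl _ : toAbF X ⋙ Coh.pushAb f ≅ Scheme.Modules.pushforward f ⋙ toAbF S)
  haveI := reflectsColimitsOfShape_of_reflectsIsomorphisms (J := J) (G := toAbF S)
  exact preservesColimitsOfShape_of_reflects_of_preserves _ (toAbF S)

/-- `f_*` of modules commutes with direct sums. -/
theorem preservesCoproducts_pushforward (α : Type u) :
    PreservesColimitsOfShape (Discrete α) (Scheme.Modules.pushforward f) := by
  classical
  haveI := isGrothendieckAbelian_modules X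
  haveI : (Scheme.Modules.pushforward f).Additive := inferInstance
  haveI := preservesColimitsOfShape_pushforward f (Finset (Discrete α))
  exact TriH.preservesColimitsOfShape_discrete_of_filtered (Scheme.Modules.pushforward f) α

/-- Filtered colimits of injective modules are acyclic for `f_*`. -/
theorem isZero_rpush_colimit [HasInjectiveResolutions X.Modules] {D : J ⥤ X.Modules} {c : Cocone D}
    (hc : IsColimit c) (hD : ∀ j, Injective (D.obj j)) (n : ℕ) :
    IsZero ((Coh.Rpush f (n + 1)).obj c.pt) := by
  haveI := preservesColimitsOfShape_toAbF X J
  refine HigherDirect.isZero_rpush_of_isZero_rpushAb f c.pt (n + 1) ?_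
  refine isZero_Rpush_of_qFlasque (f.base : sp X ⟶ sp S) (fun U : S.affineOpens => U.1)
    (HigherDirect.isBasis_affine S) (isCompact_preimage_affine f) (isQuasiSeparated_preimage_affine f)
    _ (fun U => ?_) n
  refine qFlasque_of_isColimit (isColimitOfPreserves (toAbF X) hc) (isQuasiSeparated_preimage_affine f U)
    fun j => ?_
  haveI := hD j
  have this : TopCat.Sheaf.IsFlasque ((toAbF X).obj (D.obj j)) := HigherDirect.isFlasque_toAb_of_injective (D.obj j)
  exact @qFlasque_of_isFlasque _ _ ((toAbF X).obj (D.obj j)) this

open CoproductsFromFiniteFiltered in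
/-- Direct sums of injective modules are acyclic for `f_*`. -/
theorem isZero_rpush_coproduct [HasInjectiveResolutions X.Modules] {α : Type u} (I : α → X.Modules)
    [HasCoproduct I] (hI : ∀ a, Injective (I a)) (n : ℕ) : IsZero ((Coh.Rpush f (n + 1)).obj (∐ I)) := by
  classical
  haveI := isGrothendieckAbelian_modules X
  haveI : IsFiltered (Finset (Discrete α)) := inferInstance
  refine isZero_rpush_colimit f (Finset (Discrete α)) (D := liftToFinsetObj (Discrete.functor I))
    (c := finiteSubcoproductsCocone I) (isColimitFiniteSubproductsCocone I) (fun T => ?_) n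
  show Injective (∐ fun x : T => (Discrete.functor I).obj x)
  haveI : ∀ x : T, Injective ((Discrete.functor I).obj x) := fun x => hI x.1.as
  haveI : HasFiniteBiproducts X.Modules := HasFiniteBiproducts.of_hasFiniteCoproducts
  exact Injective.of_iso (biproduct.isoCoproduct _) inferInstance

end Groth.Agent.SpecColim
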