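import Groth.Agent.SpecColim.Basic
import Mathlib.Algebra.Category.Grp.FilteredColimits
import Mathlib.CategoryTheory.Limits.ConcreteCategory.Basic

/-!
# Sections of filtered colimits of abelian sheaves on compact quasi-separated opens
-/

set_option autoImplicit false
set_option linter.style.haveILetI false
set_option backward.isDefEq.respectTransparency false
set_option backward.isDefEq.respectTransparency.types false
universe u

open CategoryTheory CategoryTheory.Limits Opposite TopologicalSpace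

namespace Groth.Agent.SpecColim

open Groth.Agent.CohVanish

variable {X : TopCat.{u}} {J : Type u} [SmallCategory J] [IsFiltered J]
  {D : J ⥤ AbSh X} {c : Cocone D}

/-- The stalk functor on abelian sheaves. -/
noncomputable abbrev stalkF (x : X) : AbSh X ⥤ AddCommGrpCat.{u} :=
  TopCat.Sheaf.forget AddCommGrpCat.{u} X ⋙ TopCat.Presheaf.stalkFunctor AddCommGrpCat.{u} x

lemma preservesColimitsOfShape_stalkF (x : X) : PreservesColimitsOfShape J (stalkF x) := by
  classical
  haveI := (stalkSkyscraperSheafAdjunction (C := AddCommGrpCat.{u}) x).leftAdjoint_preservesColimits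
  infer_instance

lemma app_map_map {F G H : AbSh X} (φ : F ⟶ G) (ψ : G ⟶ H) (A B : Opens X) (h : A ≤ B)
    (s : F.obj.obj (op B)) (hs : φ.hom.app (op A) (F.obj.map (homOfLE h).op s) = 0) :
    (φ ≫ ψ).hom.app (op A) (F.obj.map (homOfLE h).op s) = 0 := by
  rw [app_comp, hs, map_zero]

/-- The coprojection, with target `c.pt`. -/
abbrev inj (c : Cocone D) (j : J) : D.obj j ⟶ c.pt := c.ι.app j

lemma inj_w (c : Cocone D) {j k : J} (f : j ⟶ k) : D.map f ≫ inj c k = inj c j := c.w f

variable [PrespectralSpace X] (hc : IsColimit c)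

include hc in
/-- A section killed by the colimit is killed at a finite stage, near a point. -/
lemma exists_zero_near {j : J} {V : Opens X} (s : (D.obj j).obj.obj (op V))
    (hs : (inj c j).hom.app (op V) s = 0) (x : X) (hx : x ∈ V) :
    ∃ (W : Opens X) (hW : W ≤ V) (k : J) (f : j ⟶ k), x ∈ W ∧ IsCompact (W : Set X) ∧
      (D.map f).hom.app (op W) ((D.obj j).obj.map (homOfLE hW).op s) = 0 := by
  haveI : PreservesColimitsOfShape J (stalkF x) := preservesColimitsOfShape_stalkF x
  have hcx := isColimitOfPreserves (stalkF x) hc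
  let g : ToType ((D ⋙ stalkF x).obj j) := TopCat.Presheaf.germ (D.obj j).obj V x hx s
  have h0 : ((stalkF x).mapCocone c).ι.app j g = ((stalkF x).mapCocone c).ι.app j 0 := by
    rw [map_zero]
    refine (TopCat.Presheaf.stalkFunctor_map_germ_apply V x hx (inj c j).hom s).trans ?_
    rw [hs]
    exact map_zero _
  obtain ⟨k, f, f', hk⟩ := (Concrete.isColimit_rep_eq_iff_exists _ hcx g 0).1 h0
  rw [map_zero] at hk
  have hk' : TopCat.Presheaf.germ (D.obj k).obj V x hx ((D.map f).hom.app (op V) s) = TopCat.Presheaf.germ (D.obj k).obj V x hx 0 := by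
    rw [map_zero]
    exact (TopCat.Presheaf.stalkFunctor_map_germ_apply V x hx (D.map f).hom s).symm.trans hk
  obtain ⟨W, hxW, i, i', hWeq⟩ := TopCat.Presheaf.germ_eq _ x hx hx _ _ hk'
  obtain ⟨W', hxW', hW', hW'c⟩ := exists_compact_nbhd hxW
  refine ⟨W', hW'.trans (leOfHom i), k, f, hxW', hW'c, ?_⟩
  rw [map_zero] at hWeq
  rw [app_res, ← res_res (D.obj k) hW' (leOfHom i)]
  exact (congrArg ((D.obj k).obj.map (homOfLE hW').op) hWeq).trans (map_zero _)

include hc in
/-- A section over a compact open killed by the colimit is killed at a finite stage. -/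
lemma exists_zero_of_isCompact {j : J} {V : Opens X} (hVc : IsCompact (V : Set X))
    (s : (D.obj j).obj.obj (op V)) (hs : (inj c j).hom.app (op V) s = 0) :
    ∃ (k : J) (f : j ⟶ k), (D.map f).hom.app (op V) s = 0 := by
  suffices key : ∃ (h : V ≤ V) (k : J) (f : j ⟶ k),
      (D.map f).hom.app (op V) ((D.obj j).obj.map (homOfLE h).op s) = 0 by
    obtain ⟨h, k, f, hf⟩ := key
    rw [res_self] at hf
    exact ⟨k, f, hf⟩
  refine induction_compact hVc (fun A => ∃ (h : A ≤ V) (k : J) (f : j ⟶ k),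
    (D.map f).hom.app (op A) ((D.obj j).obj.map (homOfLE h).op s) = 0)
    ⟨bot_le, j, 𝟙 j, sections_bot_subsingleton _ _ _⟩ ?_ ?_
  · rintro A B hA hB - - ⟨h₁, k₁, f₁, e₁⟩ ⟨h₂, k₂, f₂, e₂⟩
    obtain ⟨k, a, b, hab⟩ := IsFiltered.span f₁ f₂
    refine ⟨sup_le h₁ h₂, k, f₁ ≫ a, eq_of_res₂ (D.obj k) (le_sup_left : A ≤ A ⊔ B) le_sup_right le_rfl ?_ ?_⟩
    · rw [← app_res, res_res, map_zero, D.map_comp]
      exact app_map_map _ _ _ _ _ _ e₁
    · rw [← app_res, res_res, map_zero, hab, D.map_comp]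
      exact app_map_map _ _ _ _ _ _ e₂
  · intro x hx
    obtain ⟨W, hW, k, f, hxW, hWc, e⟩ := exists_zero_near hc s hs x hx
    exact ⟨W, hxW, hW, hWc, hW, k, f, e⟩

include hc in
/-- Sections of the colimit come from a finite stage, near a point. -/
lemma exists_rep_near {V : Opens X} (s : c.pt.obj.obj (op V)) (x : X) (hx : x ∈ V) :
    ∃ (W : Opens X) (hW : W ≤ V) (j : J) (t : (D.obj j).obj.obj (op W)), x ∈ W ∧ IsCompact (W : Set X) ∧
      (inj c j).hom.app (op W) t = c.pt.obj.map (homOfLE hW).op s := by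
  haveI : PreservesColimitsOfShape J (stalkF x) := preservesColimitsOfShape_stalkF x
  have hcx := isColimitOfPreserves (stalkF x) hc
  obtain ⟨j, y, hy⟩ := Concrete.isColimit_exists_rep _ hcx (TopCat.Presheaf.germ c.pt.obj V x hx s)
  obtain ⟨W₀, hxW₀, t₀, rfl⟩ := TopCat.Presheaf.exists_germ_eq (D.obj j).obj y
  have h : TopCat.Presheaf.germ c.pt.obj W₀ x hxW₀ ((inj c j).hom.app (op W₀) t₀) = TopCat.Presheaf.germ c.pt.obj V x hx s :=
    (TopCat.Presheaf.stalkFunctor_map_germ_apply W₀ x hxW₀ (inj c j).hom t₀).symm.trans hy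
  obtain ⟨W₁, hxW₁, i₀, i, e⟩ := TopCat.Presheaf.germ_eq _ x hxW₀ hx _ _ h
  obtain ⟨W, hxW, hW, hWc⟩ := exists_compact_nbhd hxW₁
  refine ⟨W, hW.trans (leOfHom i), j, (D.obj j).obj.map (homOfLE (hW.trans (leOfHom i₀))).op t₀, hxW, hWc, ?_⟩
  rw [app_res, ← res_res c.pt hW (leOfHom i₀), ← res_res c.pt hW (leOfHom i)]
  exact congrArg (c.pt.obj.map (homOfLE hW).op) e

include hc in
/-- Sections of a filtered colimit over a compact quasi-separated open come from a finite stage. -/
lemma exists_rep_of_isCompact {V : Opens X} (hVc : IsCompact (V : Set X)) (hVqs : IsQuasiSeparated (V : Set X))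
    (s : c.pt.obj.obj (op V)) :
    ∃ (j : J) (t : (D.obj j).obj.obj (op V)), (inj c j).hom.app (op V) t = s := by
  suffices key : ∃ (h : V ≤ V) (j : J) (t : (D.obj j).obj.obj (op V)),
      (inj c j).hom.app (op V) t = c.pt.obj.map (homOfLE h).op s by
    obtain ⟨h, j, t, ht⟩ := key
    exact ⟨j, t, ht.trans (res_self _ _ _)⟩
  refine induction_compact hVc (fun A => ∃ (h : A ≤ V) (j : J) (t : (D.obj j).obj.obj (op A)),
    (inj c j).hom.app (op A) t = c.pt.obj.map (homOfLE h).op s)
    ⟨bot_le, IsFiltered.nonempty.some, 0, sections_bot_subsingleton _ _ _⟩ ?_ ?_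
  · rintro A B hA hB hAc hBc ⟨h₁, j₁, t₁, e₁⟩ ⟨h₂, j₂, t₂, e₂⟩
    let m := IsFiltered.max j₁ j₂
    let a := IsFiltered.leftToMax j₁ j₂
    let b := IsFiltered.rightToMax j₁ j₂
    let u₁ := (D.map a).hom.app (op A) t₁
    let u₂ := (D.map b).hom.app (op B) t₂
    have eu₁ : (inj c m).hom.app (op A) u₁ = c.pt.obj.map (homOfLE h₁).op s := by
      rw [← app_comp, inj_w c a, e₁]
    have eu₂ : (inj c m).hom.app (op B) u₂ = c.pt.obj.map (homOfLE h₂).op s := by
      rw [← app_comp, inj_w c b, e₂]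
    let d := (D.obj m).obj.map (homOfLE (inf_le_left : A ⊓ B ≤ A)).op u₁ -
      (D.obj m).obj.map (homOfLE (inf_le_right : A ⊓ B ≤ B)).op u₂
    have hd : (inj c m).hom.app (op (A ⊓ B)) d = 0 := by
      rw [map_sub, app_res, app_res, eu₁, eu₂, res_res, res_res, sub_self]
    obtain ⟨k, g, hg⟩ := exists_zero_of_isCompact hc
      (show IsCompact ((A ⊓ B : Opens X) : Set X) from hVqs _ _ hA A.2 hAc hB B.2 hBc) d hd
    rw [map_sub, app_res, app_res, sub_eq_zero] at hg
    obtain ⟨t, ht₁, ht₂⟩ := exists_glue₂ (D.obj k) (le_sup_left : A ≤ A ⊔ B) le_sup_right le_rfl _ _ hg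
    refine ⟨sup_le h₁ h₂, k, t, eq_of_res₂ c.pt (le_sup_left : A ≤ A ⊔ B) le_sup_right le_rfl ?_ ?_⟩
    · rw [← app_res, ht₁, res_res, ← app_comp, inj_w c g, eu₁]
    · rw [← app_res, ht₂, res_res, ← app_comp, inj_w c g, eu₂]
  · intro x hx
    obtain ⟨W, hW, j, t, hxW, hWc, e⟩ := exists_rep_near hc s x hx
    exact ⟨W, hxW, hW, hWc, hW, j, t, e⟩

include hc in
/-- Filtered colimits of quasi-flasque sheaves are quasi-flasque. -/
theorem qFlasque_of_isColimit {U : Opens X} (hUqs : IsQuasiSeparated (U : Set X))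
    (hD : ∀ j, QFlasque U (D.obj j)) : QFlasque U c.pt := by
  intro V W h hV hVc hWc s
  obtain ⟨j, t, ht⟩ := exists_rep_of_isCompact hc hWc
    (hUqs.of_subset (show (W : Set X) ⊆ U from h.trans hV)) s
  obtain ⟨t', ht'⟩ := hD j h hV hVc hWc t
  exact ⟨(inj c j).hom.app (op V) t', by rw [← app_res, ht', ht]⟩

end Groth.Agent.SpecColim
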