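import Groth.Agent.SpecColim.Colim
import Groth.Agent.HigherDirect.AbVanish

/-!
# Direct images of filtered colimits of abelian sheaves
-/

set_option autoImplicit false
set_option linter.style.haveILetI false
set_option backward.isDefEq.respectTransparency false
set_option backward.isDefEq.respectTransparency.types false
universe u

open CategoryTheory CategoryTheory.Limits Opposite TopologicalSpace

namespace Groth.Agent.SpecColim

open Groth.Agent.CohVanish

variable {X Y : TopCat.{u}} (f : X ⟶ Y) {κ : Type*} (B : κ → Opens Y) [PrespectralSpace X]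
  {J : Type u} [SmallCategory J] [IsFiltered J]

/-- `f_*` commutes with filtered colimits if `Y` has a basis with compact quasi-separated preimages. -/
theorem preservesColimitsOfShape_push (hB : Opens.IsBasis (Set.range B))
    (hc' : ∀ i, IsCompact (((Opens.map f).obj (B i) : Opens X) : Set X))
    (hqs : ∀ i, IsQuasiSeparated (((Opens.map f).obj (B i) : Opens X) : Set X)) :
    PreservesColimitsOfShape J (CohTop.push f) := by
  haveI := isGrothendieckAbelian_abSh Y
  refine ⟨fun {D} => ⟨fun {c} hc => ?_⟩⟩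
  let P := CohTop.push f
  let cY := colimit.cocone (D ⋙ P)
  let φ : cY.pt ⟶ P.obj c.pt := colimit.desc (D ⋙ P) (P.mapCocone c)
  have hφ : ∀ j, inj cY j ≫ φ = P.map (inj c j) := fun j => colimit.ι_desc (P.mapCocone c) j
  have key : ∀ (j : J) (W : Opens Y) (t : (P.obj (D.obj j)).obj.obj (op W)),
      φ.hom.app (op W) ((inj cY j).hom.app (op W) t) = (inj c j).hom.app (op ((Opens.map f).obj W)) t :=
    fun j W t => (app_comp (inj cY j) φ W t).symm.trans (by rw [hφ j]; rfl)
  haveI : PrespectralSpace X := ‹_›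
  suffices hiso : IsIso φ from ⟨IsColimit.ofIsoColimit (colimit.isColimit (D ⋙ P))
    (Cocone.ext (asIso φ) fun j => colimit.ι_desc _ j)⟩
  have hstalk : ∀ (y : Y), Function.Bijective ((TopCat.Presheaf.stalkFunctor AddCommGrpCat.{u} y).map φ.hom) := by
    intro y
    refine ⟨(injective_iff_map_eq_zero _).2 fun z hz => ?_, fun z => ?_⟩
    · haveI := preservesColimitsOfShape_stalkF (J := J) y
      obtain ⟨j, v, rfl⟩ := Concrete.isColimit_exists_rep _
        (isColimitOfPreserves (stalkF y) (colimit.isColimit (D ⋙ P))) z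
      obtain ⟨W₀, hyW₀, t, rfl⟩ := TopCat.Presheaf.exists_germ_eq ((D ⋙ P).obj j).obj v
      have e1 : ((stalkF y).mapCocone cY).ι.app j (TopCat.Presheaf.germ ((D ⋙ P).obj j).obj W₀ y hyW₀ t) =
          TopCat.Presheaf.germ cY.pt.obj W₀ y hyW₀ ((inj cY j).hom.app (op W₀) t) :=
        TopCat.Presheaf.stalkFunctor_map_germ_apply W₀ y hyW₀ (inj cY j).hom t
      have e2 : TopCat.Presheaf.germ (P.obj c.pt).obj W₀ y hyW₀ (φ.hom.app (op W₀) ((inj cY j).hom.app (op W₀) t)) =
          TopCat.Presheaf.germ (P.obj c.pt).obj W₀ y hyW₀ 0 := by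
        rw [map_zero]
        exact ((TopCat.Presheaf.stalkFunctor_map_germ_apply W₀ y hyW₀ φ.hom _).symm.trans
          (congrArg _ e1.symm)).trans hz
      obtain ⟨W₁, hyW₁, i, i', he⟩ := TopCat.Presheaf.germ_eq _ y hyW₀ hyW₀ _ _ e2
      obtain ⟨_, ⟨b, rfl⟩, hyb, hb⟩ := Opens.isBasis_iff_nbhd.mp hB hyW₁
      let tb := (P.obj (D.obj j)).obj.map (homOfLE (hb.trans (leOfHom i))).op t
      have h0 : (inj c j).hom.app (op ((Opens.map f).obj (B b))) tb = 0 := by
        rw [← key]
        show φ.hom.app (op (B b)) ((inj cY j).hom.app (op (B b))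
          ((P.obj (D.obj j)).obj.map (homOfLE (hb.trans (leOfHom i))).op t)) = 0
        refine ((congrArg (φ.hom.app (op (B b))) (app_res (inj cY j) (hb.trans (leOfHom i)) t)).trans
          (app_res φ (hb.trans (leOfHom i)) _)).trans ?_
        rw [← res_res (P.obj c.pt) hb (leOfHom i)]
        rw [map_zero] at he
        exact (congrArg ((P.obj c.pt).obj.map (homOfLE hb).op) he).trans (map_zero _)
      obtain ⟨k, g, hg⟩ := exists_zero_of_isCompact hc (hc' b) tb h0
      refine e1.trans ?_
      rw [← TopCat.Presheaf.germ_res_apply cY.pt.obj (homOfLE (hb.trans (leOfHom i))) y hyb,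
        ← app_res (inj cY j), ← inj_w cY g, app_comp]
      exact (congrArg (fun s => TopCat.Presheaf.germ cY.pt.obj (B b) y hyb ((inj cY k).hom.app (op (B b)) s))
        hg).trans (by rw [map_zero, map_zero])
    · obtain ⟨W₀, hyW₀, s, rfl⟩ := TopCat.Presheaf.exists_germ_eq (P.obj c.pt).obj z
      obtain ⟨_, ⟨b, rfl⟩, hyb, hb⟩ := Opens.isBasis_iff_nbhd.mp hB hyW₀
      obtain ⟨j, t, ht⟩ := exists_rep_of_isCompact hc (hc' b) (hqs b) ((P.obj c.pt).obj.map (homOfLE hb).op s)
      refine ⟨TopCat.Presheaf.germ cY.pt.obj (B b) y hyb ((inj cY j).hom.app (op (B b)) t), ?_⟩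
      refine (TopCat.Presheaf.stalkFunctor_map_germ_apply (B b) y hyb φ.hom _).trans ?_
      rw [key]
      exact (congrArg (TopCat.Presheaf.germ (P.obj c.pt).obj (B b) y hyb) ht).trans
        (TopCat.Presheaf.germ_res_apply (P.obj c.pt).obj (homOfLE hb) y hyb s)
  haveI : ∀ y : Y, IsIso ((TopCat.Presheaf.stalkFunctor AddCommGrpCat.{u} y).map φ.hom) := fun y =>
    (ConcreteCategory.isIso_iff_bijective _).2 (hstalk y)
  exact TopCat.Presheaf.isIso_of_stalkFunctor_map_iso φ

/-- Higher direct images of quasi-flasque sheaves vanish. -/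
theorem isZero_Rpush_of_qFlasque (hB : Opens.IsBasis (Set.range B))
    (hc' : ∀ i, IsCompact (((Opens.map f).obj (B i) : Opens X) : Set X))
    (hqs : ∀ i, IsQuasiSeparated (((Opens.map f).obj (B i) : Opens X) : Set X))
    (F : CohTop.Ab X) (hF : ∀ i, QFlasque ((Opens.map f).obj (B i)) F) (n : ℕ) :
    IsZero ((CohTop.Rpush f (n + 1)).obj F) :=
  HigherDirect.isZero_Rpush f B hB n F fun i =>
    subsingleton_EU_of_qFlasque (hc' i) (hqs i) n F (hF i)

end Groth.Agent.SpecColim
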